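import Mathlib

/-!
# A finite group of isometries of the Cayley tree of a free group fixes a vertex

Word-norm only: `d u v = norm (u⁻¹ * v)` on `FreeGroup X`.  If a finite group acts on `FreeGroup X`
preserving `d` and inverting no edge, then it has a global fixed point (`exists_fixed_of_isometric`).
-/

set_option autoImplicit false
set_option linter.unusedSectionVars false

namespace Cfsg.Agent.Lib.Helper71.LSF

open FreeGroup

variable {X : Type*} [DecidableEq X]

/-- the element of the free group given by one letter -/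
def letter71 (a : X × Bool) : FreeGroup X := FreeGroup.mk [a]

/-- the inverse letter -/
def flip71 (a : X × Bool) : X × Bool := (a.1, !a.2)

theorem toWord_letter71 (a : X × Bool) : (letter71 a).toWord = [a] := by
  rw [letter71, FreeGroup.toWord_mk, FreeGroup.reduce_singleton]

theorem letter71_inv (a : X × Bool) : (letter71 a)⁻¹ = letter71 (flip71 a) := by
  simp [letter71, flip71, FreeGroup.inv_mk, FreeGroup.invRev]

theorem toWord_letter71_mul (a : X × Bool) (o : FreeGroup X) :
    (letter71 a * o).toWord = match o.toWord with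
      | [] => [a]
      | hd :: tl => if a.1 = hd.1 ∧ a.2 = !hd.2 then tl else a :: hd :: tl := by
  rw [FreeGroup.toWord_mul, toWord_letter71]
  show reduce (a :: o.toWord) = _
  rw [FreeGroup.reduce.cons, FreeGroup.reduce_toWord]
  cases o.toWord <;> rfl

/-- removing the first letter -/
theorem toWord_letter71_inv_mul_of_cons (a : X × Bool) (o : FreeGroup X) (tl : List (X × Bool))
    (h : o.toWord = a :: tl) : ((letter71 a)⁻¹ * o).toWord = tl := by
  rw [letter71_inv, toWord_letter71_mul, h]
  simp [flip71]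

/-- adding a new first letter -/
theorem toWord_letter71_inv_mul_of_not_cons (a : X × Bool) (o : FreeGroup X)
    (h : ∀ tl : List (X × Bool), o.toWord ≠ a :: tl) :
    ((letter71 a)⁻¹ * o).toWord = flip71 a :: o.toWord := by
  rw [letter71_inv, toWord_letter71_mul]
  cases hw : o.toWord with
  | nil => rfl
  | cons hd tl =>
    have hne : hd ≠ a := fun e => h tl (by rw [hw, e])
    have : ¬ ((flip71 a).1 = hd.1 ∧ (flip71 a).2 = !hd.2) := by
      rintro ⟨h1, h2⟩
      apply hne
      simp only [flip71] at h1 h2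
      have h3 : a.2 = hd.2 := by
        cases ha : a.2 <;> cases hh : hd.2 <;> simp_all
      exact (Prod.ext h1 h3).symm
    simp [this]

theorem norm_letter71_inv_mul_of_cons (a : X × Bool) (o : FreeGroup X) (tl : List (X × Bool))
    (h : o.toWord = a :: tl) : norm ((letter71 a)⁻¹ * o) + 1 = norm o := by
  unfold FreeGroup.norm
  rw [toWord_letter71_inv_mul_of_cons a o tl h, h]
  rfl

theorem norm_letter71_inv_mul_of_not_cons (a : X × Bool) (o : FreeGroup X)
    (h : ∀ tl : List (X × Bool), o.toWord ≠ a :: tl) :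
    norm ((letter71 a)⁻¹ * o) = norm o + 1 := by
  unfold FreeGroup.norm
  rw [toWord_letter71_inv_mul_of_not_cons a o h]
  rfl

/-- geodesics through the origin: if the reduced word `w` and `y` have different first letters,
the distance is the sum of the lengths -/
theorem norm_mk_inv_mul71 : ∀ (w : List (X × Bool)), IsReduced w → ∀ y : FreeGroup X,
    (∀ (a : X × Bool) (tl' : List (X × Bool)), w = a :: tl' →
      ∀ tl : List (X × Bool), y.toWord ≠ a :: tl) →
    norm ((FreeGroup.mk w)⁻¹ * y) = w.length + norm y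
  | [], _, y, _ => by
    have : (FreeGroup.mk ([] : List (X × Bool))) = 1 := rfl
    simp [this]
  | a :: w', hw, y, hy => by
    have hsplit : (FreeGroup.mk (a :: w') : FreeGroup X) = letter71 a * FreeGroup.mk w' := by
      rw [letter71, FreeGroup.mul_mk]
      rfl
    have hred' : IsReduced w' := hw.infix ⟨[a], [], by simp⟩
    have hy1 := hy a w' rfl
    have hw2 := toWord_letter71_inv_mul_of_not_cons a y hy1
    have hn2 := norm_letter71_inv_mul_of_not_cons a y hy1
    have hcond : ∀ (a2 : X × Bool) (tl' : List (X × Bool)), w' = a2 :: tl' →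
        ∀ tl : List (X × Bool), ((letter71 a)⁻¹ * y).toWord ≠ a2 :: tl := by
      intro a2 tl' hw' tl hcon
      rw [hw2] at hcon
      have hfa : flip71 a = a2 := (List.cons.inj hcon).1
      rw [hw'] at hw
      have hc := (FreeGroup.isReduced_cons_cons.mp hw).1
      rw [← hfa] at hc
      have hc2 : a.2 = (flip71 a).2 := hc rfl
      have hc3 : a.2 = !a.2 := hc2
      cases ha : a.2 <;> simp [ha] at hc3
    have ih := norm_mk_inv_mul71 w' hred' ((letter71 a)⁻¹ * y) hcond
    rw [hsplit, mul_inv_rev, mul_assoc, ih, hn2]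
    simp only [List.length_cons]
    omega

theorem norm_inv_mul_of_head_ne71 (u y : FreeGroup X)
    (h : ∀ (a : X × Bool) (tl' : List (X × Bool)), u.toWord = a :: tl' →
      ∀ tl : List (X × Bool), y.toWord ≠ a :: tl) :
    norm (u⁻¹ * y) = norm u + norm y := by
  have := norm_mk_inv_mul71 u.toWord FreeGroup.isReduced_toWord y h
  rwa [FreeGroup.mk_toWord] at this

/-- an element of norm one is a letter -/
theorem eq_letter71_of_norm_one (y : FreeGroup X) (h : norm y = 1) :
    ∃ a : X × Bool, y = letter71 a ∧ y.toWord = [a] := by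
  unfold FreeGroup.norm at h
  obtain ⟨a, ha⟩ := List.length_eq_one_iff.mp h
  refine ⟨a, ?_, ha⟩
  apply FreeGroup.toWord_injective
  rw [ha, toWord_letter71]

/-- no triangles in the Cayley tree -/
theorem no_triangle71 (a b c : FreeGroup X) (hab : norm (a⁻¹ * b) = 1) (hac : norm (a⁻¹ * c) = 1)
    (hbc : norm (b⁻¹ * c) = 1) : False := by
  obtain ⟨l1, h1, hw1⟩ := eq_letter71_of_norm_one _ hab
  obtain ⟨l2, h2, hw2⟩ := eq_letter71_of_norm_one _ hac
  have hbc' : b⁻¹ * c = (a⁻¹ * b)⁻¹ * (a⁻¹ * c) := by group
  rw [hbc', h1] at hbc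
  by_cases hl : l1 = l2
  · rw [h2, hl, inv_mul_cancel, FreeGroup.norm_one] at hbc
    exact absurd hbc (by norm_num)
  · have hne : ∀ tl : List (X × Bool), (a⁻¹ * c).toWord ≠ l1 :: tl := by
      intro tl hcon
      rw [hw2] at hcon
      exact hl (List.cons.inj hcon).1.symm
    rw [norm_letter71_inv_mul_of_not_cons l1 _ hne, hac] at hbc
    exact absurd hbc (by norm_num)

section Action

variable {F : Type*} [Group F] [Fintype F] [MulAction F (FreeGroup X)]

/-- the radius of the orbit of `1` seen from `v` -/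
def rad71 (F : Type*) [Group F] [Fintype F] [MulAction F (FreeGroup X)] (v : FreeGroup X) : ℕ :=
  (Finset.univ : Finset F).sup fun g => norm (v⁻¹ * (g • (1 : FreeGroup X)))

theorem rad71_smul (hiso : ∀ (g : F) (u v : FreeGroup X),
      norm ((g • u)⁻¹ * (g • v)) = norm (u⁻¹ * v)) (h : F) (v : FreeGroup X) :
    rad71 F (h • v) = rad71 F v := by
  unfold rad71
  apply le_antisymm
  · refine Finset.sup_le fun g _ => ?_
    have e : g • (1 : FreeGroup X) = h • ((h⁻¹ * g) • (1 : FreeGroup X)) := by
      rw [← mul_smul, mul_inv_cancel_left]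
    rw [e, hiso]
    exact Finset.le_sup (f := fun g => norm (v⁻¹ * (g • (1 : FreeGroup X)))) (Finset.mem_univ _)
  · refine Finset.sup_le fun g _ => ?_
    have e : norm (v⁻¹ * (g • (1 : FreeGroup X)))
        = norm ((h • v)⁻¹ * ((h * g) • (1 : FreeGroup X))) := by
      rw [mul_smul, hiso]
    rw [e]
    exact Finset.le_sup (f := fun g => norm ((h • v)⁻¹ * (g • (1 : FreeGroup X))))
      (Finset.mem_univ _)

/-- two centres of the orbit are equal or adjacent -/
theorem centre_adjacent71 (c c' : FreeGroup X) (hmin : ∀ v : FreeGroup X, rad71 F c ≤ rad71 F v)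
    (hc' : rad71 F c' = rad71 F c) : norm (c⁻¹ * c') ≤ 1 := by
  by_contra hcon
  have h2 : 2 ≤ norm (c⁻¹ * c') := by omega
  set y := c⁻¹ * c' with hy
  obtain ⟨l, rest, hyw⟩ : ∃ l rest, y.toWord = l :: rest := by
    cases hw : y.toWord with
    | nil =>
      unfold FreeGroup.norm at h2
      rw [hw] at h2
      simp at h2
    | cons l rest => exact ⟨l, rest, rfl⟩
  set m := c * letter71 l with hm
  have hlt : ∀ g : F, norm (m⁻¹ * (g • (1 : FreeGroup X))) < rad71 F c := by
    intro g
    set o := c⁻¹ * (g • (1 : FreeGroup X)) with ho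
    have hmo : m⁻¹ * (g • (1 : FreeGroup X)) = (letter71 l)⁻¹ * o := by
      rw [hm, ho]; group
    have ho1 : norm o ≤ rad71 F c :=
      Finset.le_sup (f := fun g => norm (c⁻¹ * (g • (1 : FreeGroup X)))) (Finset.mem_univ g)
    have ho2 : norm (y⁻¹ * o) ≤ rad71 F c := by
      have e : y⁻¹ * o = c'⁻¹ * (g • (1 : FreeGroup X)) := by rw [hy, ho]; group
      rw [e, ← hc']
      exact Finset.le_sup (f := fun g => norm (c'⁻¹ * (g • (1 : FreeGroup X)))) (Finset.mem_univ g)
    rw [hmo]
    by_cases hcase : ∃ tl, o.toWord = l :: tl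
    · obtain ⟨tl, htl⟩ := hcase
      have := norm_letter71_inv_mul_of_cons l o tl htl
      omega
    · have hne : ∀ tl : List (X × Bool), o.toWord ≠ l :: tl := fun tl h => hcase ⟨tl, h⟩
      have h3 := norm_letter71_inv_mul_of_not_cons l o hne
      have h4 : norm (y⁻¹ * o) = norm y + norm o := by
        apply norm_inv_mul_of_head_ne71
        intro a tl' hya tl
        rw [hyw] at hya
        rw [← (List.cons.inj hya).1]
        exact hne tl
      omega
  have hpos : 0 < rad71 F c := lt_of_le_of_lt (Nat.zero_le _) (hlt 1)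
  have : rad71 F m < rad71 F c := by
    unfold rad71 at hpos ⊢
    rw [Finset.sup_lt_iff (by simpa using hpos)]
    intro g _
    exact hlt g
  exact absurd (hmin m) (by omega)

/-- **Fixed point theorem.** A finite group acting on `FreeGroup X` by isometries of the word
metric, inverting no edge, fixes a vertex. -/
theorem exists_fixed_of_isometric
    (hiso : ∀ (g : F) (u v : FreeGroup X), norm ((g • u)⁻¹ * (g • v)) = norm (u⁻¹ * v))
    (hninv : ∀ (g : F) (u v : FreeGroup X), norm (u⁻¹ * v) = 1 → g • u = v → g • v ≠ u) :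
    ∃ w : FreeGroup X, ∀ g : F, g • w = w := by
  classical
  have hex : ∃ r : ℕ, ∃ v : FreeGroup X, rad71 F v = r := ⟨_, 1, rfl⟩
  obtain ⟨c, hc⟩ := Nat.find_spec hex
  have hmin : ∀ v : FreeGroup X, rad71 F c ≤ rad71 F v := by
    intro v
    rw [hc]
    exact Nat.find_min' hex ⟨v, rfl⟩
  refine ⟨c, fun g => ?_⟩
  by_contra hne
  set c' := g • c with hc'
  set c'' := g • c' with hc''
  have hr' : rad71 F c' = rad71 F c := rad71_smul hiso g c
  have hr'' : rad71 F c'' = rad71 F c := by rw [hc'', rad71_smul hiso g c', hr']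
  have hd1 : norm (c⁻¹ * c') = 1 := by
    have h1 := centre_adjacent71 c c' hmin hr'
    have h0 : norm (c⁻¹ * c') ≠ 0 := by
      rw [Ne, FreeGroup.norm_eq_zero, inv_mul_eq_one]
      exact fun h => hne h.symm
    omega
  have hd2 : norm (c'⁻¹ * c'') = 1 := by rw [hc'', hc', hiso, ← hc', hd1]
  by_cases hcc : c'' = c
  · exact hninv g c c' hd1 rfl hcc
  · have hd3 : norm (c⁻¹ * c'') = 1 := by
      have h1 := centre_adjacent71 c c'' hmin hr''
      have h0 : norm (c⁻¹ * c'') ≠ 0 := by
        rw [Ne, FreeGroup.norm_eq_zero, inv_mul_eq_one]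
        exact fun h => hcc h.symm
      omega
    exact no_triangle71 c c' c'' hd1 hd3 hd2

end Action

end Cfsg.Agent.Lib.Helper71.LSF
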